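import Groth.Agent.H8.FieldDescent.Stage
import Groth.Agent.H8.PIDescent.General
import Groth.Agent.Lib.AlgSpMor.QC
import Groth.Agent.Lib.AlgSpace.OpenSubExists
import Mathlib.RingTheory.Jacobson.Ring
import Mathlib.FieldTheory.SeparableClosure

/-! # Descent of representability to finite separable extensions and along unions of ideals -/

set_option autoImplicit false
set_option linter.style.haveILetI false
set_option backward.isDefEq.respectTransparency false
set_option backward.isDefEq.respectTransparency.types false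

universe u

open CategoryTheory CategoryTheory.Limits AlgebraicGeometry
open AlgSp (Sp yon RepWith IsAlgSpace IsQuasiCompactSp IsQuasiSeparatedSp Points)
open Groth.Agent.Lib Groth.Agent.Lib.AlgSpace
open Groth.Agent.H8.FieldDescent.Stage

namespace Groth.Agent.H8.FieldDescent.Main

section Base

variable {A₀ : CommRingCat.{u}} {X : Sp (Spec A₀)}

/-- The base change along an equal map. -/
theorem isRepresentable_congr {R : CommRingCat.{u}} {f g : A₀ ⟶ R} (e : f = g)
    (h : (bc X f).obj.IsRepresentable) : (bc X g).obj.IsRepresentable := e ▸ h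

/-- An isomorphic sheaf of a scheme is a scheme. -/
theorem isRepresentable_of_iso {S : Scheme.{u}} {F G : Sp S} (e : F ≅ G)
    (h : F.obj.IsRepresentable) : G.obj.IsRepresentable := by
  obtain ⟨T, ⟨hT⟩⟩ := h.has_representation
  exact (AlgSp.representableByOfIso (AlgSp.isoOfRepresentableBy hT ≪≫ e)).isRepresentable

/-- The trivial base change. -/
noncomputable def bcId : bc X (𝟙 A₀) ≅ X :=
  haveI : IsIso (Over.homMk (Spec.map (𝟙 A₀)) (Category.comp_id _) :
      (Over.mk (Spec.map (𝟙 A₀)) : Over (Spec A₀)) ⟶ Over.mk (𝟙 (Spec A₀))) := by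
    haveI : IsIso ((Over.forget _).map (Over.homMk (Spec.map (𝟙 A₀)) (Category.comp_id _) :
        (Over.mk (Spec.map (𝟙 A₀)) : Over (Spec A₀)) ⟶ Over.mk (𝟙 (Spec A₀)))) :=
      inferInstanceAs (IsIso (Spec.map (𝟙 A₀)))
    exact isIso_of_reflects_iso _ (Over.forget _)
  let i := asIso (Over.homMk (Spec.map (𝟙 A₀)) (Category.comp_id _) :
      (Over.mk (Spec.map (𝟙 A₀)) : Over (Spec A₀)) ⟶ Over.mk (𝟙 (Spec A₀)))
  have hb : IsTerminal ((yon (Spec A₀)).obj (Over.mk (𝟙 _))) :=
    Over.mkIdTerminal.isTerminalObj (yon (Spec A₀))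
  { hom := prod.fst
    inv := prod.lift (𝟙 X) (hb.from X ≫ (yon _).map i.inv)
    hom_inv_id := prod.hom_ext (by simp [prod.lift_fst]) (by
      haveI : IsIso ((yon (Spec A₀)).map i.hom) := inferInstance
      rw [← cancel_mono ((yon (Spec A₀)).map i.hom)]
      exact hb.hom_ext _ _)
    inv_hom_id := prod.lift_fst _ _ }

/-- An open subspace base-changes to an open subspace. -/
theorem repWith_bc_map {V : Sp (Spec A₀)} {j : V ⟶ X} (hj : RepWith @IsOpenImmersion j)
    {R : CommRingCat.{u}} (f : A₀ ⟶ R) :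
    RepWith @IsOpenImmersion (prod.map j (𝟙 _) : bc V f ⟶ bc X f) :=
  AlgSpace.repWith_baseChange (fst := (prod.fst : bc V f ⟶ V)) (g := (prod.fst : bc X f ⟶ X))
    (isPullback_of_yon (by simp)
      (fun U p q h1 h2 ↦ prod.hom_ext h1 (by simpa using congrArg (· ≫ prod.snd) h2))
      fun U p q w ↦ ⟨prod.lift p (q ≫ prod.snd), prod.lift_fst _ _,
        prod.hom_ext (by simp; exact w) (by simp)⟩) hj

/-- Open subspaces of schemes are schemes. -/
theorem isRepresentable_of_open {S : Scheme.{u}} {F G : Sp S} {j : F ⟶ G}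
    (hj : RepWith @IsOpenImmersion j) (h : G.obj.IsRepresentable) : F.obj.IsRepresentable := by
  obtain ⟨T, ⟨hT⟩⟩ := h.has_representation
  let e := AlgSp.isoOfRepresentableBy hT
  obtain ⟨V, -, i, -⟩ := AlgSpace.exists_iso_yon_of_representable hj.rep (ξ := e.hom)
    (fst := 𝟙 F) (snd := j ≫ e.inv) (IsPullback.of_horiz_isIso ⟨by simp⟩)
  exact (AlgSp.representableByOfIso i).isRepresentable

/-- A sheaf covered by open subspaces which are schemes is a scheme. -/
theorem isRepresentable_of_cover {S : Scheme.{u}} {F : Sp S} (hF : IsAlgSpace F) {ι : Type u}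
    {V : ι → Sp S} {j : ∀ i, V i ⟶ F} (hj : ∀ i, RepWith @IsOpenImmersion (j i))
    (hV : ∀ i, (V i).obj.IsRepresentable)
    (hcov : ∀ x : Points F, ∃ i, x ∈ Set.range (Points.map (j i))) : F.obj.IsRepresentable := by
  choose W hW using fun i => (hV i).has_representation
  let e i := AlgSp.isoOfRepresentableBy (hW i).some
  have hf : ∀ i, RepWith @IsOpenImmersion ((e i).hom ≫ j i) :=
    fun i => (AlgSpace.repWith_iso_comp_iff _ (e i).hom (j i)).2 (hj i)
  obtain ⟨G, φ, -, hφ, -⟩ := UnivThick.OpenCover.exists_scheme_iso hf (fun T g t => by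
    obtain ⟨i, z, hz⟩ := hcov (Points.ofPt g t)
    refine ⟨i, ?_⟩
    have h0 : t ∈ Points.ofPt g ⁻¹' (Points.map ((e i).hom ≫ j i) '' Set.univ) :=
      ⟨Points.map (e i).inv z, trivial, by
        rw [← Points.map_comp, Iso.inv_hom_id_assoc]; exact hz⟩
    rw [AlgSpace.preimage_image_map ((hf i).1.isPullback g)] at h0
    exact Set.image_subset_range _ _ h0)
  exact AlgSpDecent.OpenScheme.isRepresentable_of_iso (@asIso _ _ _ _ φ hφ)

/-- Every point has a quasi-compact open neighbourhood. -/
theorem exists_qc_nhd (hX : IsAlgSpace X) (hqs : IsQuasiSeparatedSp X) (x : Points X) :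
    ∃ (V : Sp (Spec A₀)) (j : V ⟶ X), IsAlgSpace V ∧ IsQuasiCompactSp V ∧ IsQuasiSeparatedSp V ∧
      RepWith @IsOpenImmersion j ∧ x ∈ Set.range (Points.map j) := by
  obtain ⟨U, a, ha, hs⟩ := hX.atlas
  obtain ⟨v, rfl⟩ := AlgSpace.surjective_ofPt hs x
  obtain ⟨_, ⟨O, hO, rfl⟩, hv, -⟩ :=
    U.left.isBasis_affineOpens.exists_subset_of_mem_open (Set.mem_univ v) isOpen_univ
  obtain ⟨V, j, hV, hj, hr⟩ :=
    AlgSpace.exists_open_subspace hX (AlgSpace.isOpenMap_ofPt ha _ O.2)
  haveI : Mono j := AlgSpace.mono_of_repWith (P := @IsOpenImmersion)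
    (fun _ _ g (_ : IsOpenImmersion g) ↦ (inferInstance : Mono g)) hj
  haveI : CompactSpace (Points V) := ⟨by
    rw [(AlgSpace.isOpenEmbedding_map hj).isInducing.isCompact_iff, Set.image_univ, hr]
    exact hO.isCompact.image (Points.continuous_ofPt a)⟩
  refine ⟨V, j, hV, (AlgSpMor.QC.isQuasiCompactSp_iff hV).2 inferInstance,
    AlgSpMor.Perm.repWith_diag_of_mor @QuasiCompact j (AlgSpace.repWith_of_isIso _ _) hqs, hj, ?_⟩
  exact hr.ge ⟨v, hv, rfl⟩

end Base

section Field

variable {k : Type u} [Field k]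

/-- Finitely generated subalgebras. -/
abbrev FGSub (k K : Type u) [Field k] [Field K] [Algebra k K] : Type u :=
  {A : Subalgebra k K // A.FG}

instance isDirectedOrder_fgSub (K : Type u) [Field K] [Algebra k K] :
    IsDirectedOrder (FGSub k K) :=
  ⟨fun a b ↦ ⟨⟨a.1 ⊔ b.1, a.2.sup b.2⟩, Subtype.coe_le_coe.1 le_sup_left,
      Subtype.coe_le_coe.1 le_sup_right⟩⟩

instance nonempty_fgSub (K : Type u) [Field K] [Algebra k K] : Nonempty (FGSub k K) :=
  ⟨⟨⊥, Subalgebra.fg_bot⟩⟩

/-- If some extension makes a qcqs space a scheme, so does a finite separable one. -/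
theorem exists_finite_separable {X : Sp (Spec (CommRingCat.of k))} (hX : IsAlgSpace X)
    (hqc : IsQuasiCompactSp X) (hqs : IsQuasiSeparatedSp X) (K : Type u) [Field K] [Algebra k K]
    (h : (bc X (CommRingCat.ofHom (algebraMap k K))).obj.IsRepresentable) :
    ∃ (L : Type u) (_ : Field L) (_ : Algebra k L), Module.Finite k L ∧ Algebra.IsSeparable k L ∧
      (bc X (CommRingCat.ofHom (algebraMap k L))).obj.IsRepresentable := by
  haveI : IsFiltered (FGSub k K) := isFiltered_of_directed_le_nonempty (FGSub k K)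
  let F : FGSub k K ⥤ CommRingCat.{u} :=
    { obj := fun A => CommRingCat.of A.1
      map := fun f => CommRingCat.ofHom (Subalgebra.inclusion (Subtype.coe_le_coe.2 f.le)).toRingHom
      map_id := fun _ => by ext x; rfl
      map_comp := fun _ _ => by ext x; rfl }
  let ρ : (Functor.const (FGSub k K)).obj (CommRingCat.of k) ⟶ F :=
    { app := fun A => CommRingCat.ofHom (algebraMap k A.1)
      naturality := fun _ _ _ => by ext x; rfl }
  let c : Cocone F :=
    { pt := CommRingCat.of K
      ι := { app := fun A => CommRingCat.ofHom A.1.val.toRingHom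
             naturality := fun _ _ _ => by ext x; rfl } }
  haveI : HasColimit F := inferInstance
  haveI : ReflectsColimit F (forget CommRingCat.{u}) :=
    reflectsColimit_of_reflectsIsomorphisms _ _
  let hc : IsColimit c := isColimitOfReflects (forget CommRingCat.{u})
    (Types.FilteredColimit.isColimitOf _ _ (fun x => by
      let x' : K := x
      exact ⟨⟨Algebra.adjoin k {x'}, Subalgebra.fg_adjoin_finset {x'} |> fun h => by simpa using h⟩,
        ⟨x', Algebra.self_mem_adjoin_singleton k x'⟩, rfl⟩) fun i j xi xj e => by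
      obtain ⟨m, him, hjm⟩ := exists_ge_ge i j
      exact ⟨m, homOfLE him, homOfLE hjm, Subtype.ext e⟩)
  obtain ⟨A, hA⟩ := exists_stage F ρ c hc (CommRingCat.ofHom (algebraMap k K))
    (fun _ => by ext x; rfl) hX hqc hqs h
  haveI : Algebra.FiniteType k A.1 := A.1.fg_iff_finiteType.1 A.2
  obtain ⟨m, hm⟩ := Ideal.exists_maximal A.1
  letI : Field (A.1 ⧸ m) := Ideal.Quotient.field m
  haveI : Algebra.FiniteType k (A.1 ⧸ m) :=
    Algebra.FiniteType.of_surjective (Ideal.Quotient.mkₐ k m) Ideal.Quotient.mk_surjective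
  haveI : Module.Finite k (A.1 ⧸ m) := finite_of_finite_type_of_isJacobsonRing k (A.1 ⧸ m)
  have hκ := isRepresentable_congr (g := CommRingCat.ofHom (algebraMap k (A.1 ⧸ m)))
    (by ext x; rfl)
    (isRepresentable_bc_comp (ρ.app A) (CommRingCat.ofHom (Ideal.Quotient.mk m)) hA)
  let L := separableClosure k (A.1 ⧸ m)
  refine ⟨L, inferInstance, inferInstance, inferInstance, inferInstance, ?_⟩
  let B : Scheme.{u} := Spec (CommRingCat.of k)
  let b : Over B := Over.mk (Spec.map (CommRingCat.ofHom (algebraMap k L)))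
  let EK : Over B := Over.mk (Spec.map (CommRingCat.ofHom (algebraMap k (A.1 ⧸ m))))
  let f : EK ⟶ b := Over.homMk (Spec.map (CommRingCat.ofHom (algebraMap L (A.1 ⧸ m)))) (by
    show Spec.map _ ≫ Spec.map _ = Spec.map _
    rw [← Spec.map_comp, ← CommRingCat.ofHom_comp, ← IsScalarTower.algebraMap_eq])
  haveI : IsAffine b.left := inferInstanceAs (IsAffine (Spec (CommRingCat.of L)))
  haveI : IsAffine EK.left := inferInstanceAs (IsAffine (Spec (CommRingCat.of (A.1 ⧸ m))))
  haveI : Algebra.IsIntegral L (A.1 ⧸ m) := Algebra.IsIntegral.tower_top (R := k)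
  refine PIDescent.General.isRepresentable_of_pullback f
    (IsIntegralHom.SpecMap_iff.2 (fun x => Algebra.IsIntegral.isIntegral (R := L) x))
    (PIDescent.Basic.universallyInjective_specMap L (A.1 ⧸ m))
    ((HasRingHomProperty.Spec_iff (P := @Flat)).2 (RingHom.flat_algebraMap_iff.2 inferInstance))
    ⟨fun x => ⟨IsLocalRing.closedPoint (A.1 ⧸ m), Subsingleton.elim (α := PrimeSpectrum L) _ _⟩⟩
    (qcqs_bc hX hqc hqs _).1 (q := prod.snd) (π := prod.map (𝟙 X) ((yon B).map f))
    (qK := prod.snd) ?_ hκ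
  exact isPullback_of_yon (prod.map_snd _ _)
    (fun U p q h1 h2 ↦ prod.hom_ext (by simpa using congrArg (· ≫ prod.fst) h1) h2)
    fun U p q w ↦ ⟨prod.lift (p ≫ prod.fst) q, prod.hom_ext (by simp)
      (by simp; exact w.symm), prod.lift_snd _ _⟩

/-- If some extension makes a quasi-separated space a scheme, so does an algebraic closure. -/
theorem isRepresentable_algClosure {X : Sp (Spec (CommRingCat.of k))} (hX : IsAlgSpace X)
    (hqs : IsQuasiSeparatedSp X) (K : Type u) [Field K] [Algebra k K]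
    (h : (bc X (CommRingCat.ofHom (algebraMap k K))).obj.IsRepresentable)
    (Ω : Type u) [Field Ω] [Algebra k Ω] [IsAlgClosure k Ω] :
    (bc X (CommRingCat.ofHom (algebraMap k Ω))).obj.IsRepresentable := by
  haveI : IsAlgClosed Ω := IsAlgClosure.isAlgClosed k
  obtain ⟨U, a, ha, hs⟩ := hX.atlas
  choose V j hV hVc hVs hj hmem using fun u : U.left => exists_qc_nhd hX hqs (Points.ofPt a u)
  have hrep : ∀ u, (bc (V u) (CommRingCat.ofHom (algebraMap k Ω))).obj.IsRepresentable := fun u => by
    obtain ⟨L, iL, iA, hfin, -, hL⟩ := exists_finite_separable (hV u) (hVc u) (hVs u) K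
      (isRepresentable_of_open (repWith_bc_map (hj u) _) h)
    haveI := hfin
    let σ : L →ₐ[k] Ω := IsAlgClosed.lift
    exact isRepresentable_congr (by ext x; exact σ.commutes x)
      (isRepresentable_bc_comp _ (CommRingCat.ofHom σ.toRingHom) hL)
  let π : bc X (CommRingCat.ofHom (algebraMap k Ω)) ⟶ X := prod.fst
  have hbc : IsAlgSpace (bc X (CommRingCat.ofHom (algebraMap k Ω))) :=
    AlgSpace.isAlgSpace_prod hX (IsAlgSpace.yon_obj _)
  refine isRepresentable_of_cover hbc (fun u => repWith_bc_map (hj u) _) hrep fun x => ?_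
  obtain ⟨u, hu⟩ := AlgSpace.surjective_ofPt hs (Points.map π x)
  obtain ⟨v, hv⟩ := hmem u
  have sq : IsPullback (prod.fst : bc (V u) (CommRingCat.ofHom (algebraMap k Ω)) ⟶ _)
      (prod.map (j u) (𝟙 _)) (j u) π := isPullback_of_yon (by simp [π])
      (fun U p q h1 h2 ↦ prod.hom_ext h1 (by simpa using congrArg (· ≫ prod.snd) h2))
      fun U p q w ↦ ⟨prod.lift p (q ≫ prod.snd), prod.lift_fst _ _,
        prod.hom_ext (by simp; exact w) (by simp)⟩
  obtain ⟨z, -, hz⟩ := AlgSpace.exists_of_isPullback sq v x (hv.trans hu)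
  exact ⟨u, z, hz⟩

end Field

section Ideals

variable {A : CommRingCat.{u}}

/-- An ideal maximal among those with non-representable base change. -/
theorem exists_maximal_ideal {X : Sp (Spec A)} (hX : IsAlgSpace X) (hqc : IsQuasiCompactSp X)
    (hqs : IsQuasiSeparatedSp X) (h : ¬ X.obj.IsRepresentable) :
    ∃ I : Ideal A, ¬ (bc X (CommRingCat.ofHom (Ideal.Quotient.mk I))).obj.IsRepresentable ∧
      ∀ I' : Ideal A, I < I' →
        (bc X (CommRingCat.ofHom (Ideal.Quotient.mk I'))).obj.IsRepresentable := by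
  let s : Set (Ideal A) :=
    {I | ¬ (bc X (CommRingCat.ofHom (Ideal.Quotient.mk I))).obj.IsRepresentable}
  have hbot : (⊥ : Ideal A) ∈ s := fun hr => by
    refine h (isRepresentable_of_iso bcId (isRepresentable_congr ?_
      (isRepresentable_bc_comp _ (CommRingCat.ofHom (RingEquiv.quotientBot A).toRingHom) hr)))
    ext x; rfl
  obtain ⟨I, -, hI⟩ := zorn_le_nonempty₀ s (fun C hC hchain I₀ hI₀ => by
    refine ⟨sSup C, fun hr => ?_, fun z hz => le_sSup hz⟩
    haveI : Nonempty C := ⟨⟨I₀, hI₀⟩⟩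
    haveI : IsDirectedOrder C := ⟨fun a b => by
      rcases hchain.total a.2 b.2 with h | h
      · exact ⟨b, h, le_rfl⟩
      · exact ⟨a, le_rfl, h⟩⟩
    haveI : IsFiltered C := isFiltered_of_directed_le_nonempty C
    let F : C ⥤ CommRingCat.{u} :=
      { obj := fun I => CommRingCat.of (A ⧸ I.1)
        map := fun f => CommRingCat.ofHom (Ideal.Quotient.factor f.le)
        map_id := fun _ => by ext x; rfl
        map_comp := fun _ _ => by ext x; rfl }
    let ρ : (Functor.const C).obj A ⟶ F :=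
      { app := fun I => CommRingCat.ofHom (Ideal.Quotient.mk I.1)
        naturality := fun _ _ _ => by ext x; rfl }
    let c : Cocone F :=
      { pt := CommRingCat.of (A ⧸ sSup C)
        ι := { app := fun I => CommRingCat.ofHom (Ideal.Quotient.factor (le_sSup I.2))
               naturality := fun _ _ _ => by ext x; rfl } }
    haveI : HasColimit F := inferInstance
    haveI : ReflectsColimit F (forget CommRingCat.{u}) :=
      reflectsColimit_of_reflectsIsomorphisms _ _
    let hc : IsColimit c := isColimitOfReflects (forget CommRingCat.{u})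
      (Types.FilteredColimit.isColimitOf _ _ (fun x => by
        obtain ⟨x, rfl⟩ := Ideal.Quotient.mk_surjective x
        exact ⟨⟨I₀, hI₀⟩, Ideal.Quotient.mk I₀ x, rfl⟩) fun i j xi xj e => by
        obtain ⟨xi, rfl⟩ := Ideal.Quotient.mk_surjective xi
        obtain ⟨xj, rfl⟩ := Ideal.Quotient.mk_surjective xj
        have e' : xi - xj ∈ sSup C := Ideal.Quotient.eq.1 e
        obtain ⟨I, hI, hxI⟩ :=
          (Submodule.mem_sSup_of_directed ⟨I₀, hI₀⟩ hchain.directedOn).1 e'
        obtain ⟨m, him, hjm⟩ := exists_ge_ge i j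
        obtain ⟨n, hmn, hIn⟩ := exists_ge_ge m ⟨I, hI⟩
        exact ⟨n, homOfLE (him.trans hmn), homOfLE (hjm.trans hmn),
          Ideal.Quotient.eq.2 (hIn hxI)⟩)
    obtain ⟨I, hI⟩ := exists_stage F ρ c hc (CommRingCat.ofHom (Ideal.Quotient.mk (sSup C)))
      (fun _ => by ext x; rfl) hX hqc hqs hr
    exact hC I.2 hI) ⊥ hbot
  exact ⟨I, hI.1, fun I' hI' => by_contra fun hn => hI'.not_ge (hI.2 hn hI'.le)⟩

end Ideals

end Groth.Agent.H8.FieldDescent.Main
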