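import Groth.Agent.Lib.AlgSpLimit.FieldLim
import Groth.Agent.Lib.AlgSpLimit.SchemeStage
import Groth.Agent.Lib.AlgSpLimit.Stage

/-! # Representability of a base change descends along a colimit of rings -/

set_option autoImplicit false
set_option linter.style.haveILetI false

universe u

open CategoryTheory CategoryTheory.Limits AlgebraicGeometry Opposite
open AlgSp (Sp yon RepWith IsAlgSpace IsAffineMor IsQuasiCompactSp IsQuasiSeparatedSp)
open Groth.Agent.Lib Groth.Agent.Lib.AlgSpace Groth.Agent.Lib.AlgSpMor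

namespace Groth.Agent.H8.FieldDescent.Stage

variable {A₀ : CommRingCat.{u}}

/-- The base change of a space over an affine base to a ring. -/
noncomputable abbrev bc (X : Sp (Spec A₀)) {R : CommRingCat.{u}} (f : A₀ ⟶ R) : Sp (Spec A₀) :=
  X ⨯ (yon (Spec A₀)).obj (Over.mk (Spec.map f))

/-- A base change is qcqs. -/
theorem qcqs_bc {X : Sp (Spec A₀)} (hX : IsAlgSpace X) (hqc : IsQuasiCompactSp X)
    (hqs : IsQuasiSeparatedSp X) {R : CommRingCat.{u}} (f : A₀ ⟶ R) :
    IsAlgSpace (bc X f) ∧ IsQuasiCompactSp (bc X f) ∧ IsQuasiSeparatedSp (bc X f) := by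
  let B : Scheme.{u} := Spec A₀
  let b := Over.mk (𝟙 B)
  have hb : IsTerminal ((yon B).obj b) := Over.mkIdTerminal.isTerminalObj (yon B)
  let E : Over B := Over.mk (Spec.map f)
  haveI : IsAffine E.left := inferInstanceAs (IsAffine (Spec R))
  haveI : IsAffine b.left := inferInstanceAs (IsAffine (Spec A₀))
  have sqb : IsPullback (prod.fst : X ⨯ (yon B).obj E ⟶ X) prod.snd (hb.from X)
      (hb.from ((yon B).obj E)) := isPullback_of_yon (hb.hom_ext _ _)
    (fun U p q h1 h2 ↦ prod.hom_ext h1 h2)
    fun U p q _ ↦ ⟨prod.lift p q, prod.lift_fst _ _, prod.lift_snd _ _⟩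
  have hfaff : IsAffineMor (prod.fst : bc X f ⟶ X) := by
    refine Perm.isAffineMor_baseChange sqb.flip ?_
    rw [show hb.from ((yon B).obj E) =
      (yon B).map (Over.homMk E.hom (Category.comp_id _) : E ⟶ b) from hb.hom_ext _ _]
    exact AffineDescent.isAffineMor_iff.2
      ((AlgSp.repWith_yon_map_iff _ _).2 (isAffineHom_of_isAffine _))
  exact AlgSpLimit.qcqs_of_affine hX hfaff hqc hqs

variable {J : Type u} [SmallCategory J] [IsFiltered J]

/-- If the base change to a filtered colimit of rings is a scheme, so is the base change to some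
stage. -/
theorem exists_stage (F : J ⥤ CommRingCat.{u}) (ρ : (Functor.const J).obj A₀ ⟶ F)
    (c : Cocone F) (hc : IsColimit c) (r : A₀ ⟶ c.pt) (hr : ∀ j, ρ.app j ≫ c.ι.app j = r)
    {X : Sp (Spec A₀)} (hX : IsAlgSpace X) (hqc : IsQuasiCompactSp X)
    (hqs : IsQuasiSeparatedSp X) (h : (bc X r).obj.IsRepresentable) :
    ∃ j, (bc X (ρ.app j)).obj.IsRepresentable := by
  let B : Scheme.{u} := Spec A₀
  haveI : IsConnected Jᵒᵖ := IsCofiltered.isConnected _
  let E : Jᵒᵖ ⥤ Over B :=
    { obj := fun L ↦ Over.mk (Spec.map (ρ.app L.unop))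
      map := fun {L M} f ↦ Over.homMk (Spec.map (F.map f.unop)) (by
        dsimp only [Over.mk_hom]
        rw [← Spec.map_comp, ← ρ.naturality f.unop]
        simp)
      map_id := fun L ↦ Over.OverMorphism.ext (by
        show Spec.map (F.map (𝟙 L.unop)) = 𝟙 _
        rw [CategoryTheory.Functor.map_id, Spec.map_id])
      map_comp := fun f g ↦ Over.OverMorphism.ext (by
        show Spec.map (F.map (g.unop ≫ f.unop)) = _
        rw [CategoryTheory.Functor.map_comp, Spec.map_comp]; rfl) }
  let W : Over B := Over.mk (Spec.map r)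
  let eW : Cone E :=
    { pt := W
      π :=
        { app := fun L ↦ Over.homMk (Spec.map (c.ι.app L.unop)) (by
            show _ ≫ Spec.map _ = Spec.map _
            rw [← Spec.map_comp, hr])
          naturality := fun L M f ↦ Over.OverMorphism.ext (by
            show 𝟙 _ ≫ Spec.map _ = Spec.map _ ≫ Spec.map _
            rw [Category.id_comp, ← Spec.map_comp]
            exact congrArg Spec.map (c.w f.unop).symm) } }
  have hsch : IsLimit ((Over.forget B).mapCone eW) := isLimitOfPreserves Scheme.Spec hc.op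
  have he : IsLimit eW := isLimitOfReflects (Over.forget B) hsch
  haveI := AlgSpLimit.preservesLimit_yon E
  let D : Jᵒᵖ ⥤ Sp B :=
    { obj := fun L ↦ X ⨯ (yon B).obj (E.obj L)
      map := fun f ↦ prod.map (𝟙 X) ((yon B).map (E.map f))
      map_id := fun L ↦ by rw [E.map_id, CategoryTheory.Functor.map_id, prod.map_id_id]
      map_comp := fun f g ↦ by
        rw [E.map_comp, Functor.map_comp, prod.map_map, Category.id_comp] }
  let cD : Cone D :=
    { pt := X ⨯ (yon B).obj W
      π :=
        { app := fun L ↦ prod.map (𝟙 X) ((yon B).map (eW.π.app L))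
          naturality := fun L M f ↦ by
            refine (Category.id_comp _).trans ?_
            show _ = _ ≫ prod.map _ _
            rw [prod.map_map, Category.id_comp, ← Functor.map_comp, eW.w] } }
  let L₀ : Jᵒᵖ := op (IsFiltered.nonempty (C := J)).some
  have hfst : ∀ (s : Cone D) (L : Jᵒᵖ), s.π.app L ≫ prod.fst = s.π.app L₀ ≫ prod.fst := by
    intro s L
    obtain ⟨M, a, b, -⟩ := IsCofilteredOrEmpty.cone_objs L L₀
    rw [← s.w a, ← s.w b]
    simp [D]
  let sE : Cone D → Cone (E ⋙ yon B) := fun s ↦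
    { pt := s.pt
      π :=
        { app := fun L ↦ s.π.app L ≫ prod.snd
          naturality := fun L M f ↦ by
            refine (Category.id_comp _).trans ?_
            rw [← s.w f]
            simp [D] } }
  let hEy := isLimitOfPreserves (yon B) he
  have hcD : IsLimit cD :=
    { lift := fun s ↦ prod.lift (s.π.app L₀ ≫ prod.fst) (hEy.lift (sE s))
      fac := fun s L ↦ by
        show _ ≫ prod.map _ _ = _
        apply prod.hom_ext
        · rw [Category.assoc, prod.map_fst, Category.comp_id, prod.lift_fst]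
          exact (hfst s L).symm
        · rw [Category.assoc, prod.map_snd, prod.lift_snd_assoc]
          exact hEy.fac (sE s) L
      uniq := fun s m hm ↦ by
        apply prod.hom_ext
        · rw [prod.lift_fst, ← hm L₀]
          simp [cD]
        · rw [prod.lift_snd]
          exact hEy.uniq (sE s) _ fun L ↦ by simp [sE, ← hm L, cD] }
  have hDa : ∀ L M (f : L ⟶ M), IsAffineMor (D.map f) := fun L M f ↦ by
    haveI : IsAffine (E.obj L).left := inferInstanceAs (IsAffine (Spec (F.obj L.unop)))
    haveI : IsAffine (E.obj M).left := inferInstanceAs (IsAffine (Spec (F.obj M.unop)))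
    refine Perm.isAffineMor_baseChange (fst := (prod.snd : D.obj L ⟶ _)) (g := (prod.snd : D.obj M ⟶ _))
      ?_ (AffineDescent.isAffineMor_iff.2
        ((AlgSp.repWith_yon_map_iff _ (E.map f)).2 (isAffineHom_of_isAffine _)))
    exact isPullback_of_yon (by simp [D])
      (fun U p q h1 h2 ↦ prod.hom_ext (by simpa [D] using congrArg (· ≫ prod.fst) h2) h1)
      fun U p q w ↦ ⟨prod.lift (q ≫ prod.fst) p, prod.lift_snd _ _, prod.hom_ext
        (by show (_ ≫ prod.map _ _) ≫ _ = _
            rw [Category.assoc, prod.map_fst, Category.comp_id, prod.lift_fst])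
        (by show (_ ≫ prod.map _ _) ≫ _ = _
            rw [Category.assoc, prod.map_snd, prod.lift_snd_assoc]; exact w)⟩
  obtain ⟨T, ⟨hT⟩⟩ := h.has_representation
  obtain ⟨L, M, ⟨e⟩⟩ := AlgSpLimit.exists_scheme_stage_of_scheme
    (fun L ↦ (qcqs_bc hX hqc hqs (ρ.app L.unop)).1) hDa hcD
    (fun L ↦ (qcqs_bc hX hqc hqs (ρ.app L.unop)).2.1)
    (fun L ↦ (qcqs_bc hX hqc hqs (ρ.app L.unop)).2.2) (AlgSp.isoOfRepresentableBy hT)
  exact ⟨L.unop, (AlgSp.representableByOfIso e).isRepresentable⟩

/-- A base change of a scheme is a scheme. -/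
theorem isRepresentable_bc_comp {X : Sp (Spec A₀)} {R R' : CommRingCat.{u}} (f : A₀ ⟶ R)
    (g : R ⟶ R') (h : (bc X f).obj.IsRepresentable) : (bc X (f ≫ g)).obj.IsRepresentable := by
  let B : Scheme.{u} := Spec A₀
  obtain ⟨T, ⟨hT⟩⟩ := h.has_representation
  let e := AlgSp.isoOfRepresentableBy hT
  let E : Over B := Over.mk (Spec.map f)
  let E' : Over B := Over.mk (Spec.map (f ≫ g))
  let c : E' ⟶ E := Over.homMk (Spec.map g) (by
    show Spec.map g ≫ Spec.map f = Spec.map (f ≫ g)
    rw [Spec.map_comp])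
  obtain ⟨q, hq⟩ := (yon B).map_surjective (e.hom ≫ prod.snd)
  have s1 : IsPullback ((yon B).map (pullback.fst q c)) ((yon B).map (pullback.snd q c))
      (e.hom ≫ prod.snd) ((yon B).map c) := by
    rw [← hq]
    exact (IsPullback.of_hasPullback q c).map (yon B)
  have s2 : IsPullback (prod.map (𝟙 X) ((yon B).map c)) prod.snd (prod.snd : bc X f ⟶ _)
      ((yon B).map c) := isPullback_of_yon (by simp)
    (fun U p q h1 h2 ↦ prod.hom_ext (by simpa using congrArg (· ≫ prod.fst) h1) h2)
    fun U p q w ↦ ⟨prod.lift (p ≫ prod.fst) q, prod.hom_ext (by simp; exact prod.lift_fst _ _)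
      (by simp; exact (prod.lift_snd _ _).trans w.symm), prod.lift_snd _ _⟩
  have s1' : IsPullback ((yon B).map (pullback.fst q c) ≫ e.hom) ((yon B).map (pullback.snd q c))
      (prod.snd : bc X f ⟶ _) ((yon B).map c) :=
    s1.of_iso (Iso.refl _) e (Iso.refl _) (Iso.refl _) (by simp) (by simp) (by simp) (by simp)
  exact (AlgSp.representableByOfIso (s1'.isoIsPullback _ _ s2)).isRepresentable

end Groth.Agent.H8.FieldDescent.Stage
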